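import Cfsg.Agent.H38.KKL.Red
import Cfsg.Agent.H610.KKL.Asm5
import Cfsg.Agent.H466.KKL.A12
import Cfsg.Agent.H640.KKL.Canon
import Cfsg.Agent.H990.KKL.A4
import Cfsg.Agent.H581.KKL.BOne
import Cfsg.Agent.H142.KKL.B2
import Cfsg.Agent.H245.KKL.Reyn
import Cfsg.Agent.H658.KKL.FongTwo
import Cfsg.Agent.H242.KKL.BFive
import Cfsg.Agent.H527.KKL.B7
import Cfsg.Agent.H388.KKL.BEight
import Cfsg.Agent.H608.KKL.C2

/-!
# S4546: the assembly of the local theory and of the reduction (helper610)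

* `a5` : A5 with A1-A4 inserted;
* `inputs` : the inputs of the reduction B9 (Schreier's property of the simple groups as a hypothesis);
* `main_of` : S4546 from the rows (quasisimple groups with odd centre).
-/

set_option autoImplicit false

open Cfsg Cfsg.Agent.H613.KKL

namespace Cfsg.Agent.H610.KKL

universe u

/-- Schreier's property of the finite simple groups -/
def SchAll : Prop :=
  ∀ (K : Type u) [Group K] [Finite K], IsQuasisimple K → Cfsg.Agent.Schreier.Basic.Sch (K ⧸ Subgroup.center K)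

/-- A5 -/
theorem a5 : Cfsg.Agent.H38.KKL.PA5.{u} := fun hM _ hB _ hD h8 _ hχ hh =>
  A5 hM hB hD h8 (Cfsg.Agent.H466.KKL.A1 hM hB hD h8) (Cfsg.Agent.H466.KKL.A2 hM hB hD h8)
    (fun c hc T hT h7 => Cfsg.Agent.H640.KKL.A3 hM hB hD h8 c hc T hT h7)
    (fun c hc T hT h7 => Cfsg.Agent.H990.KKL.A4 hM hB hD h8 c hc T hT h7) hχ hh

/-- the inputs of the reduction -/
theorem inputs (hS : SchAll.{u}) : Cfsg.Agent.H38.KKL.Inputs.{u} where
  a1 := fun hM _ hB _ hD h8 => Cfsg.Agent.H466.KKL.A1 hM hB hD h8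
  a5 := a5
  b1 := fun hM _ hB _ hD h8 N _ b hb hst hcov hDN => Cfsg.Agent.H581.KKL.B1 hM hB hD h8 N b hb hst hcov hDN
  b2 := fun hM _ hB _ hD h8 N _ b hb hst hcov hDN => Cfsg.Agent.H142.KKL.B2 hM hB hD h8 N b hb hst hcov hDN
  b3 := fun hM _ hB _ hD h8 N _ b hb hcov T hT hz => Cfsg.Agent.H245.KKL.B3 hM hB hD h8 N b hb hcov T hT hz
  b4 := fun hM _ hB _ hD h8 N _ ξ hinv hz hcov hDN => Cfsg.Agent.H658.KKL.B4 hM hB hD h8 N ξ hinv hz hcov hDN
  b5 := fun hM _ hB _ hD h8 L H _ _ hLH hDL hk hst => Cfsg.Agent.H242.KKL.B5 hM hB hD h8 L H hLH hDL hk hst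
  b6 := fun hM _ hB _ hD h8 N _ hodd hz b hb hst hcov => Cfsg.Agent.H242.KKL.B6 hM hB hD h8 N hodd hz b hb hst hcov
  b7 := fun D h8 y hy h1 h2 h3 h4 h5 => Cfsg.Agent.H527.KKL.B7 D h8 y hy h1 h2 h3 h4 h5
  b8 := fun K _ hK hC _ h2 => Cfsg.Agent.H388.KKL.B8_of_sch K hK hC (hS K hK) h2
  b10 := fun hM _ hB _ hD h8 N => Cfsg.Agent.H245.KKL.B10 hM hB hD h8 N

/-- **the reduction to quasisimple groups with odd centre** -/
theorem hz_all (hS : SchAll.{u})
    (hrows : ∀ (K : Type u) [Group K] [Finite K], IsQuasisimple K → Odd (Nat.card ↥(Subgroup.center K)) → HZ K) :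
    ∀ (G : Type u) [Group G] [Finite G], HZ G :=
  Cfsg.Agent.H38.KKL.B9_of (inputs hS) hrows

/-- **S4546 from the rows** -/
theorem main_of (hS : SchAll.{u})
    (hrows : ∀ (K : Type u) [Group K] [Finite K], IsQuasisimple K → Odd (Nat.card ↥(Subgroup.center K)) → HZ K)
    {G : Type u} [Group G] [Finite G] (M : Ideal AlgInt) (hM : IsPModular 2 M) (B : Set (IrrCharacter G))
    (hB : IsPBlock M B) (D : Subgroup G) (hD : IsDefectGroup 2 M B D) (n : ℕ) (hn : 2 ≤ n)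
    (hiso : Nonempty (D ≃* Multiplicative (ZMod (2 ^ n) × ZMod 2 × ZMod 2 × ZMod 2))) :
    Nat.card B = 2 ^ (n + 3) ∧ (∀ χ ∈ B, blockHeight 2 B (χ : G → ℂ) = 0) ∧
      (blockRank 2 B = 1 ∨ blockRank 2 B = 3 ∨ blockRank 2 B = 5 ∨ blockRank 2 B = 7) :=
  Cfsg.Agent.H608.KKL.C2 (hz_all hS hrows) M hM B hB D hD n hn hiso

end Cfsg.Agent.H610.KKL
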