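import Cfsg.Agent.H610.KKL.Asm5
import Cfsg.Agent.H38.KKL.Props
import Cfsg.Agent.OddHalf.Known

/-!
# S4546: the rows together (G1)  (helper610)

* `Rows` : the structure of all rows (`Type`, exact statements of the stubs);
* `hz_of_noCfg` : `NoCfg (K / Z(K))` gives `HZ K`;
* `hz_rows` : all quasisimple groups with odd centre (universe `0`);
* `hz_rows_univ` : in every universe.
-/

set_option autoImplicit false

open Cfsg Cfsg.Agent.H613.KKL

namespace Cfsg.Agent.H610.KKL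

universe u

/-- the rows of simple groups of Lie type in odd characteristic -/
structure LieRows : Prop where
  psl : ∀ {F : Type} [Field F] [Fintype F] {p : ℕ} [Fact p.Prime] [CharP F p], p ≠ 2 → ∀ n : ℕ, 2 ≤ n →
    NoCfg (Matrix.ProjectiveSpecialLinearGroup (Fin n) F)
  psp : ∀ {F : Type} [Field F] [Fintype F] {p : ℕ} [Fact p.Prime] [CharP F p], p ≠ 2 → ∀ m : ℕ, 2 ≤ m →
    NoCfg (PSp m F)
  psu : ∀ {F : Type} [Field F] [Fintype F] {p : ℕ} [Fact p.Prime] [CharP F p], p ≠ 2 → ∀ n q : ℕ,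
    Fintype.card F = q ^ 2 → 3 ≤ n → NoCfg (PSU n F q)
  odd : ∀ {F : Type} [Field F] [Fintype F] {p : ℕ} [Fact p.Prime] [CharP F p], p ≠ 2 → ∀ m : ℕ, 3 ≤ m →
    NoCfg (POmega F (quadFormOdd m F))
  plus : ∀ {F : Type} [Field F] [Fintype F] {p : ℕ} [Fact p.Prime] [CharP F p], p ≠ 2 → ∀ m : ℕ, 4 ≤ m →
    NoCfg (POmega F (quadFormPlus m F))
  minus : ∀ {F : Type} [Field F] [Fintype F] {p : ℕ} [Fact p.Prime] [CharP F p], p ≠ 2 → ∀ (m : ℕ) (a b : F),
    4 ≤ m → (∀ z₁ z₂ : F, z₁ ^ 2 + a * z₁ * z₂ + b * z₂ ^ 2 = 0 → z₁ = 0 ∧ z₂ = 0) →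
    NoCfg (POmega F (quadFormMinus (m - 1) F a b))
  g2 : ∀ {F : Type} [Field F] [Fintype F] {p : ℕ} [Fact p.Prime] [CharP F p], p ≠ 2 →
    NoCfg ↥(Lie.chevG2.group F)
  f4 : ∀ {F : Type} [Field F] [Fintype F] {p : ℕ} [Fact p.Prime] [CharP F p], p ≠ 2 →
    NoCfg ↥(Lie.chevF4.group F)
  e6 : ∀ {F : Type} [Field F] [Fintype F] {p : ℕ} [Fact p.Prime] [CharP F p], p ≠ 2 →
    NoCfg ↥(Lie.chevE6.group F)
  e8 : ∀ {F : Type} [Field F] [Fintype F] {p : ℕ} [Fact p.Prime] [CharP F p], p ≠ 2 →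
    NoCfg ↥(Lie.chevE8.group F)
  e6t : ∀ {F : Type} [Field F] [Fintype F] {p : ℕ} [Fact p.Prime] [CharP F p], p ≠ 2 → ∀ q : ℕ,
    Fintype.card F = q ^ 2 → NoCfg (Lie.twistedE6 F q)
  d4t : ∀ {F : Type} [Field F] [Fintype F] {p : ℕ} [Fact p.Prime] [CharP F p], p ≠ 2 → ∀ q : ℕ,
    Fintype.card F = q ^ 3 → NoCfg (Lie.twistedD4 F q)

/-- the rows of the sporadic groups and of the Tits group -/
structure SporRows : Prop where
  tits : ∀ {S : Type} [Group S] [Finite S], Lie.IsoTits S → NoCfg S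
  m11 : ∀ {S : Type} [Group S] [Finite S], Spor.IsoM11 S → NoCfg S
  m12 : ∀ {S : Type} [Group S] [Finite S], Spor.IsoM12 S → NoCfg S
  m22 : ∀ {S : Type} [Group S] [Finite S], Spor.IsoM22 S → NoCfg S
  m23 : ∀ {S : Type} [Group S] [Finite S], Spor.IsoM23 S → NoCfg S
  m24 : ∀ {S : Type} [Group S] [Finite S], Spor.IsoM24 S → NoCfg S
  j2 : ∀ {S : Type} [Group S] [Finite S], Spor.IsoJ2 S → NoCfg S
  j3 : ∀ {S : Type} [Group S] [Finite S], Spor.IsoJ3 S → NoCfg S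
  j4 : ∀ {S : Type} [Group S] [Finite S], Spor.IsoJ4 S → NoCfg S
  co1 : ∀ {S : Type} [Group S] [Finite S], Spor.IsoCo1 S → NoCfg S
  co2 : ∀ {S : Type} [Group S] [Finite S], Spor.IsoCo2 S → NoCfg S
  mcl : ∀ {S : Type} [Group S] [Finite S], Spor.IsoMcL S → NoCfg S
  hs : ∀ {S : Type} [Group S] [Finite S], Spor.IsoHS S → NoCfg S
  suz : ∀ {S : Type} [Group S] [Finite S], Spor.IsoSuz S → NoCfg S
  he : ∀ {S : Type} [Group S] [Finite S], Spor.IsoHe S → NoCfg S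
  ru : ∀ {S : Type} [Group S] [Finite S], Spor.IsoRu S → NoCfg S
  on : ∀ {S : Type} [Group S] [Finite S], Spor.IsoON S → NoCfg S
  ly : ∀ {S : Type} [Group S] [Finite S], Spor.IsoLy S → NoCfg S
  fi22 : ∀ {S : Type} [Group S] [Finite S], Spor.IsoFi22 S → NoCfg S
  fi23 : ∀ {S : Type} [Group S] [Finite S], Spor.IsoFi23 S → NoCfg S
  fi24 : ∀ {S : Type} [Group S] [Finite S], Spor.IsoFi24' S → NoCfg S
  hn : ∀ {S : Type} [Group S] [Finite S], Spor.IsoHN S → NoCfg S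
  th : ∀ {S : Type} [Group S] [Finite S], Spor.IsoTh S → NoCfg S
  b : ∀ {S : Type} [Group S] [Finite S], Spor.IsoB S → NoCfg S
  m : ∀ {S : Type} [Group S] [Finite S], Spor.IsoM S → NoCfg S

/-- the positive rows -/
structure PosRows : Prop where
  l28 : ∀ {K : Type} [Group K] [Finite K], IsQuasisimple K → Odd (Nat.card ↥(Subgroup.center K)) →
    Nonempty (K ⧸ Subgroup.center K ≃* Matrix.ProjectiveSpecialLinearGroup (Fin 2) (GaloisField 2 3)) → HZ K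
  j1 : ∀ {K : Type} [Group K] [Finite K], IsQuasisimple K → Odd (Nat.card ↥(Subgroup.center K)) →
    Spor.IsoJ1 (K ⧸ Subgroup.center K) → HZ K
  ree : ∀ {K : Type} [Group K] [Finite K], IsQuasisimple K → Odd (Nat.card ↥(Subgroup.center K)) →
    Lie.IsoRee (K ⧸ Subgroup.center K) → HZ K
  co3 : ∀ {K : Type} [Group K] [Finite K], IsQuasisimple K → Odd (Nat.card ↥(Subgroup.center K)) →
    Spor.IsoCo3 (K ⧸ Subgroup.center K) → HZ K
  e7 : ∀ {K : Type} [Group K] [Finite K], IsQuasisimple K → Odd (Nat.card ↥(Subgroup.center K)) →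
    ∀ {F : Type} [Field F] [Fintype F] {p : ℕ} [Fact p.Prime] [CharP F p], p ≠ 2 →
    Nonempty (K ⧸ Subgroup.center K ≃* ↥(Lie.chevE7.group F)) → HZ K

/-- all rows -/
structure Rows : Prop where
  alt : ∀ {n : ℕ}, 5 ≤ n → NoCfg (alternatingGroup (Fin n))
  lie2 : ∀ {S : Type} [Group S] [Finite S] [IsSimpleGroup S], IsLieTypeChar 2 S → ∀ {D : Subgroup S} {x : S},
    Cfg0 D x → Nonempty (S ≃* Matrix.ProjectiveSpecialLinearGroup (Fin 2) (GaloisField 2 3))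
  lie : LieRows
  spor : SporRows
  pos : PosRows

section

variable {K : Type u} [Group K] [Finite K]

/-- a row `NoCfg` gives heights zero -/
theorem hz_of_cfg (a5 : Cfsg.Agent.H38.KKL.PA5.{u}) (hZ : Odd (Nat.card ↥(Subgroup.center K)))
    (h : ∀ (D : Subgroup (K ⧸ Subgroup.center K)) (x : K ⧸ Subgroup.center K), Cfg0 D x → HZ K) : HZ K := by
  intro M hM B hB D hD h8 χ hχ
  by_contra hh
  obtain ⟨x, θ, hc⟩ := a5 hM hB hD h8 hχ hh
  exact hh (h _ _ (A6 hZ hc.toCfg0) M hM B hB D hD h8 χ hχ)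

theorem hz_of_noCfg (a5 : Cfsg.Agent.H38.KKL.PA5.{u}) (hZ : Odd (Nat.card ↥(Subgroup.center K)))
    (h : NoCfg (K ⧸ Subgroup.center K)) : HZ K :=
  hz_of_cfg a5 hZ fun D x hc => (h D x hc).elim

end

/-- **G1** in universe `0` -/
theorem hz_rows (R : Rows) (a5 : Cfsg.Agent.H38.KKL.PA5.{0})
    (known : ∀ (S : Type) [Group S] [Finite S] [IsSimpleGroup S], IsKnownSimple' S)
    {K : Type} [Group K] [Finite K] (hK : IsQuasisimple K) (hZ : Odd (Nat.card ↥(Subgroup.center K))) : HZ K := by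
  have := hK.2
  have hna : ¬ IsMulCommutative (K ⧸ Subgroup.center K) := by
    intro hc
    have := hK.1
    exact Group.IsPerfect.not_isMulCommutative (K ⧸ Subgroup.center K) hc
  rcases Cfsg.Agent.OddHalf.Known.classify hna (known (K ⧸ Subgroup.center K)) with h | ⟨p, hp, hp2, h⟩ | h | h
  · obtain ⟨n, hn, ⟨e⟩⟩ := h
    exact hz_of_noCfg a5 hZ (A7 e (R.alt hn))
  · have : Fact p.Prime := ⟨hp⟩
    rcases h with h | h | h | h | h | h | h | h | h | h | h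
    · obtain ⟨F, _, _, _, n, h1, -, ⟨e⟩⟩ := h
      exact hz_of_noCfg a5 hZ (A7 e (R.lie.psl hp2 n h1))
    · obtain ⟨F, _, _, _, m, h1, -, ⟨e⟩⟩ := h
      exact hz_of_noCfg a5 hZ (A7 e (R.lie.psp hp2 m h1))
    · obtain ⟨F, _, _, _, n, q, h1, h2, -, ⟨e⟩⟩ := h
      exact hz_of_noCfg a5 hZ (A7 e (R.lie.psu hp2 n q h1 h2))
    · obtain ⟨F, _, _, _, m, h1, -, ⟨e⟩⟩ := h
      exact hz_of_noCfg a5 hZ (A7 e (R.lie.odd hp2 m h1))
    · obtain ⟨F, _, _, _, m, h1, ⟨e⟩⟩ := h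
      exact hz_of_noCfg a5 hZ (A7 e (R.lie.plus hp2 m h1))
    · obtain ⟨F, _, _, _, m, a, b, h1, h2, ⟨e⟩⟩ := h
      exact hz_of_noCfg a5 hZ (A7 e (R.lie.minus hp2 m a b h1 h2))
    · obtain ⟨F, _, _, _, h⟩ := h
      rcases h with ⟨-, ⟨e⟩⟩ | ⟨⟨e⟩⟩ | ⟨⟨e⟩⟩ | ⟨⟨e⟩⟩ | ⟨⟨e⟩⟩
      · exact hz_of_noCfg a5 hZ (A7 e (R.lie.g2 hp2))
      · exact hz_of_noCfg a5 hZ (A7 e (R.lie.f4 hp2))
      · exact hz_of_noCfg a5 hZ (A7 e (R.lie.e6 hp2))
      · exact R.pos.e7 hK hZ hp2 ⟨e⟩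
      · exact hz_of_noCfg a5 hZ (A7 e (R.lie.e8 hp2))
    · obtain ⟨F, _, _, _, q, -, h⟩ := h
      rcases h with ⟨hq, ⟨e⟩⟩ | ⟨hq, ⟨e⟩⟩
      · exact hz_of_noCfg a5 hZ (A7 e (R.lie.e6t hp2 q hq))
      · exact hz_of_noCfg a5 hZ (A7 e (R.lie.d4t hp2 q hq))
    · exact absurd h.1 hp2
    · exact absurd h.1 hp2
    · exact R.pos.ree hK hZ h.2
  · rcases h with h | h
    · exact hz_of_cfg a5 hZ fun D x hc => R.pos.l28 hK hZ (R.lie2 h hc)
    · exact hz_of_noCfg a5 hZ (R.spor.tits h)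
  · rcases h with h | h | h | h | h | h | h | h | h | h | h | h | h | h | h | h | h | h | h | h | h | h | h | h | h | h
    · exact hz_of_noCfg a5 hZ (R.spor.m11 h)
    · exact hz_of_noCfg a5 hZ (R.spor.m12 h)
    · exact hz_of_noCfg a5 hZ (R.spor.m22 h)
    · exact hz_of_noCfg a5 hZ (R.spor.m23 h)
    · exact hz_of_noCfg a5 hZ (R.spor.m24 h)
    · exact R.pos.j1 hK hZ h
    · exact hz_of_noCfg a5 hZ (R.spor.j2 h)
    · exact hz_of_noCfg a5 hZ (R.spor.j3 h)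
    · exact hz_of_noCfg a5 hZ (R.spor.j4 h)
    · exact hz_of_noCfg a5 hZ (R.spor.co1 h)
    · exact hz_of_noCfg a5 hZ (R.spor.co2 h)
    · exact R.pos.co3 hK hZ h
    · exact hz_of_noCfg a5 hZ (R.spor.mcl h)
    · exact hz_of_noCfg a5 hZ (R.spor.hs h)
    · exact hz_of_noCfg a5 hZ (R.spor.suz h)
    · exact hz_of_noCfg a5 hZ (R.spor.he h)
    · exact hz_of_noCfg a5 hZ (R.spor.ru h)
    · exact hz_of_noCfg a5 hZ (R.spor.on h)
    · exact hz_of_noCfg a5 hZ (R.spor.ly h)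
    · exact hz_of_noCfg a5 hZ (R.spor.fi22 h)
    · exact hz_of_noCfg a5 hZ (R.spor.fi23 h)
    · exact hz_of_noCfg a5 hZ (R.spor.fi24 h)
    · exact hz_of_noCfg a5 hZ (R.spor.hn h)
    · exact hz_of_noCfg a5 hZ (R.spor.th h)
    · exact hz_of_noCfg a5 hZ (R.spor.b h)
    · exact hz_of_noCfg a5 hZ (R.spor.m h)

/-- quasisimplicity is invariant -/
theorem isQuasisimple_congr {K K' : Type*} [Group K] [Group K'] (e : K ≃* K') (h : IsQuasisimple K) :
    IsQuasisimple K' := by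
  obtain ⟨h1, h2⟩ := h
  have := h1
  have := h2
  refine ⟨Group.IsPerfect.ofSurjective (f := e.toMonoidHom) e.surjective, ?_⟩
  have hc : (Subgroup.center K).map e.toMonoidHom = Subgroup.center K' := by
    ext x
    constructor
    · rintro ⟨y, hy, rfl⟩
      rw [Subgroup.mem_center_iff]
      intro z
      obtain ⟨w, rfl⟩ := e.surjective z
      change e w * e y = e y * e w
      rw [← map_mul, ← map_mul, Subgroup.mem_center_iff.1 hy w]
    · intro hx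
      refine ⟨e.symm x, ?_, e.apply_symm_apply x⟩
      rw [SetLike.mem_coe, Subgroup.mem_center_iff]
      intro z
      apply e.injective
      rw [map_mul, map_mul, e.apply_symm_apply]
      exact Subgroup.mem_center_iff.1 hx (e z)
  exact (QuotientGroup.congr _ _ e hc).symm.isSimpleGroup

/-- **G1** in every universe -/
theorem hz_rows_univ (R : Rows) (a5 : Cfsg.Agent.H38.KKL.PA5.{0})
    (known : ∀ (S : Type) [Group S] [Finite S] [IsSimpleGroup S], IsKnownSimple' S)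
    (K : Type u) [Group K] [Finite K] (hK : IsQuasisimple K) (hZ : Odd (Nat.card ↥(Subgroup.center K))) : HZ K := by
  have : Small.{0} K := inferInstance
  let e : K ≃* Shrink.{0} K := (Shrink.mulEquiv (α := K)).symm
  have : Finite (Shrink.{0} K) := Finite.of_equiv K e.toEquiv
  refine A7' e (hz_rows R a5 known (isQuasisimple_congr e hK) ?_)
  have h1 : Nat.card (Subgroup.center (Shrink.{0} K)) = Nat.card (Subgroup.center K) :=
    (Nat.card_congr (Subgroup.centerCongr e).toEquiv).symm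
  rw [h1]
  exact hZ

end Cfsg.Agent.H610.KKL
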