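import Cfsg.Agent.H610.KKL.Rows
import Cfsg.Agent.H731.KKL.Alt
import Cfsg.Agent.H323.KKL.LieTwo
import Cfsg.Agent.H901.KKL.Psl
import Cfsg.Agent.H55.KKL.Psp
import Cfsg.Agent.H503.KKL.OmegaRow
import Cfsg.Agent.H486.KKL.Hex
import Cfsg.Agent.H157.KKL.Psu
import Cfsg.Agent.H652.KKL.Tits
import Cfsg.Agent.H348.KKL.MathA
import Cfsg.Agent.H348.KKL.MathB
import Cfsg.Agent.H921.KKL.EJ
import Cfsg.Agent.H651.KKL.CharTwoRows
import Cfsg.Agent.H848.KKL.HS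
import Cfsg.Agent.H495.KKL.Mt
import Cfsg.Agent.H825.KKL.He
import Cfsg.Agent.H489.KKL.Ru
import Cfsg.Agent.H489.KKL.Suz
import Cfsg.Agent.H651.KKL.ON
import Cfsg.Agent.H842.KKL.Fischer
import Cfsg.Agent.H521.KKL.RowHN
import Cfsg.Agent.H695.KKL.BRow
import Cfsg.Agent.H821.KKL.M
import Cfsg.Agent.H611.KKL.Odd8
import Cfsg.Agent.H417.KKL.FE7

/-!
# S4546: the landed rows inserted  (helper610)

`rows` : the structure `Rows` from the rows which were landed later (`Late`).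
-/

set_option autoImplicit false

open Cfsg Cfsg.Agent.H613.KKL

namespace Cfsg.Agent.H610.KKL

/-- the rows which are inserted in the last file -/
structure Late : Prop where
  f4 : ∀ {F : Type} [Field F] [Fintype F] {p : ℕ} [Fact p.Prime] [CharP F p], p ≠ 2 →
    NoCfg ↥(Lie.chevF4.group F)
  e6 : ∀ {F : Type} [Field F] [Fintype F] {p : ℕ} [Fact p.Prime] [CharP F p], p ≠ 2 →
    NoCfg ↥(Lie.chevE6.group F)
  e8 : ∀ {F : Type} [Field F] [Fintype F] {p : ℕ} [Fact p.Prime] [CharP F p], p ≠ 2 →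
    NoCfg ↥(Lie.chevE8.group F)
  e6t : ∀ {F : Type} [Field F] [Fintype F] {p : ℕ} [Fact p.Prime] [CharP F p], p ≠ 2 → ∀ q : ℕ,
    Fintype.card F = q ^ 2 → NoCfg (Lie.twistedE6 F q)
  e7 : Cfsg.Agent.H417.KKL.E7St
  co1 : ∀ {S : Type} [Group S] [Finite S], Spor.IsoCo1 S → NoCfg S
  co3 : ∀ {K : Type} [Group K] [Finite K], IsQuasisimple K → Odd (Nat.card ↥(Subgroup.center K)) →
    Spor.IsoCo3 (K ⧸ Subgroup.center K) → HZ K

/-- the rows of Lie type, odd characteristic -/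
theorem lieRows (L : Late) : LieRows where
  psl := fun hp n hn => Cfsg.Agent.H901.KKL.E_psl hp n hn
  psp := fun hp m hm => Cfsg.Agent.H55.KKL.E_psp hp m hm
  psu := fun hp n q hq hn => Cfsg.Agent.H157.KKL.E_psu hp n q hq hn
  odd := fun hp m hm => Cfsg.Agent.H503.KKL.E_omega_odd hp m hm
  plus := fun hp m hm => Cfsg.Agent.H503.KKL.E_omega_plus hp m hm
  minus := fun hp m a b hm hab => Cfsg.Agent.H503.KKL.E_omega_minus hp m a b hm hab
  g2 := fun hp => Cfsg.Agent.H486.KKL.E_G2 hp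
  f4 := L.f4
  e6 := L.e6
  e8 := L.e8
  e6t := L.e6t
  d4t := fun hp q hq => Cfsg.Agent.H486.KKL.E_3D4 hp q hq

/-- the sporadic rows -/
theorem sporRows (L : Late) : SporRows where
  tits := fun h => Cfsg.Agent.H652.KKL.E_tits h
  m11 := fun h => Cfsg.Agent.H348.KKL.E_M11 h
  m12 := fun h => Cfsg.Agent.H348.KKL.E_M12 h
  m22 := fun h => Cfsg.Agent.H348.KKL.E_M22 h
  m23 := fun h => Cfsg.Agent.H348.KKL.E_M23 h
  m24 := fun h => Cfsg.Agent.H348.KKL.E_M24 h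
  j2 := fun h => Cfsg.Agent.H921.KKL.E_J2 h
  j3 := fun h => Cfsg.Agent.H921.KKL.E_J3 h
  j4 := fun h => Cfsg.Agent.H651.KKL.E_J4 h
  co1 := L.co1
  co2 := fun h => Cfsg.Agent.H651.KKL.E_Co2 h
  mcl := fun h => Cfsg.Agent.H495.KKL.E_McL h
  hs := fun h => Cfsg.Agent.H848.KKL.E_HS h
  suz := fun h => Cfsg.Agent.H489.KKL.E_Suz h
  he := fun h => Cfsg.Agent.H825.KKL.E_He h
  ru := fun h => Cfsg.Agent.H489.KKL.E_Ru h
  on := fun h => Cfsg.Agent.H651.KKL.E_ON h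
  ly := fun h => Cfsg.Agent.H495.KKL.E_Ly h
  fi22 := fun h => Cfsg.Agent.H842.KKL.E_Fi22 h
  fi23 := fun h => Cfsg.Agent.H842.KKL.E_Fi23 h
  fi24 := fun h => Cfsg.Agent.H842.KKL.E_Fi24 h
  hn := fun h => Cfsg.Agent.H521.KKL.E_HN h
  th := fun h => Cfsg.Agent.H651.KKL.E_Th h
  b := fun h => Cfsg.Agent.H695.KKL.BRow.E_B h
  m := fun h => Cfsg.Agent.H821.KKL.E_M h

/-- the positive rows -/
theorem posRows (a5 : Cfsg.Agent.H38.KKL.PA5.{0}) (L : Late) : PosRows where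
  l28 := fun hK hZ h => Cfsg.Agent.H611.KKL.F_L28 hK hZ h
  j1 := fun hK hZ h => Cfsg.Agent.H611.KKL.F_J1 hK hZ h
  ree := fun hK hZ h => Cfsg.Agent.H611.KKL.F_Ree hK hZ h
  co3 := L.co3
  e7 := fun {_} _ _ hK hZ {_} _ _ {_} _ _ hp h =>
    Cfsg.Agent.H417.KKL.F_E7_of a5 (fun e h => A7' e h) L.e7 hK hZ hp h

/-- **all rows** -/
theorem rows (a5 : Cfsg.Agent.H38.KKL.PA5.{0}) (L : Late) : Rows where
  alt := fun hn => Cfsg.Agent.H731.KKL.E_alt hn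
  lie2 := fun {_} _ _ _ h {_} {_} hc => Cfsg.Agent.H323.KKL.E_lie2 h hc
  lie := lieRows L
  spor := sporRows L
  pos := posRows a5 L

end Cfsg.Agent.H610.KKL
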